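import Groth.Agent.Lib.Helper22.GaZar.GaIso
import Groth.Agent.Lib.Helper22.GaAcyc.AS
import Groth.Agent.S0469

/-!
# `ℤ/p`-cohomology of quasi-compact quasi-separated schemes of characteristic `p` vanishes above
`dim + 1`
-/

set_option autoImplicit false
set_option linter.unusedSectionVars false
set_option linter.style.haveILetI false
universe u
open CategoryTheory CategoryTheory.Limits Opposite TopologicalSpace AlgebraicGeometry Abelian

namespace Groth.Agent.Lib.Helper22.GaZar
open Groth.Agent.Lib.Helper22.GaAcyc.AS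

variable (X : Scheme.{u})

/-- The étale cohomology of `G_a` on a qcqs scheme vanishes above the dimension. -/
theorem subsingleton_H_Ga_of_spectral [SpectralSpace X] (d : ℕ) (hd : topologicalKrullDim X ≤ d)
    (q : ℕ) (hq : d < q) : Subsingleton (EtCoh.H X (EtCoh.Ga X) q) := by
  obtain ⟨E⟩ := nonempty_H_Ga_addEquiv X q
  haveI : Subsingleton (Coh.HH X (Coh.structureModule X) q) :=
    Groth.Agent.S0469.result (X := X.carrier) d hd (Coh.toAb (Coh.structureModule X)) q hq
  exact E.injective.subsingleton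

/-- `H^q(X_ét, ℤ/p) = 0` for `q ≥ dim X + 2` on a qcqs scheme of characteristic `p`. -/
theorem subsingleton_H_const_of_spectral (p : ℕ) [hp : Fact p.Prime] (h0 : (p : Γ(X, ⊤)) = 0)
    [SpectralSpace X] (d : ℕ) (hd : topologicalKrullDim X ≤ d) (n : ℕ) (hn : d < n) :
    Subsingleton (EtCoh.H X (EtCoh.const X (ZMod p)) (n + 1)) := by
  have hT := shortExact_AS X p h0
  refine subsingleton_of_forall_eq 0 fun x => ?_
  haveI := subsingleton_H_Ga_of_spectral X d hd (n + 1) (by omega)
  haveI := subsingleton_H_Ga_of_spectral X d hd n hn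
  have h1 : x.comp (Ext.mk₀ (fAS X p h0)) (add_zero (n + 1)) = 0 :=
    Subsingleton.elim (α := EtCoh.H X (EtCoh.Ga X) (n + 1)) _ _
  obtain ⟨x₃, hx₃⟩ := Ext.covariant_sequence_exact₁ _ hT x h1 (rfl : n + 1 = n + 1)
  have h3 : x₃ = 0 := Subsingleton.elim (α := EtCoh.H X (EtCoh.Ga X) n) _ _
  rw [← hx₃, h3, Ext.zero_comp]

end Groth.Agent.Lib.Helper22.GaZar
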