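import Groth.Agent.Lib.Helper22.GaZar.ASZar
import Groth.Agent.Lib.Helper22.GaAcyc.AS
import Groth.Agent.S0458
import Groth.Agent.Lib.Helper22.PLinear2

/-!
# `ℤ/p`-cohomology of proper schemes over a separably closed field of characteristic `p`
-/

set_option autoImplicit false
set_option linter.unusedSectionVars false
set_option linter.style.haveILetI false
universe u
open CategoryTheory CategoryTheory.Limits Opposite TopologicalSpace AlgebraicGeometry Abelian

namespace Groth.Agent.Lib.Helper22.GaZar
open W4c5etcohweilstudent Groth.Agent.Lib.Helper22.GaAcyc.AS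

noncomputable section

variable (X : Scheme.{u}) (p : ℕ) [hp : Fact p.Prime]

/-- The étale cohomology of `G_a` vanishes above the dimension. -/
theorem subsingleton_H_Ga_of_dim [NoetherianSpace X] (d : ℕ) (hd : topologicalKrullDim X ≤ d)
    (q : ℕ) (hq : d < q) : Subsingleton (EtCoh.H X (EtCoh.Ga X) q) := by
  obtain ⟨E⟩ := nonempty_H_Ga_addEquiv X q
  haveI : Subsingleton (Coh.HH X (Coh.structureModule X) q) :=
    Groth.Agent.S0458.result (X := X.carrier) d hd (Coh.toAb (Coh.structureModule X)) q hq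
  exact E.injective.subsingleton

section Proper

variable (k : Type u) [Field k] [CharP k p] (f : X ⟶ Spec (CommRingCat.of k))

include f in
omit hp in
lemma natCast_eq_zero_of_field : (p : Γ(X, ⊤)) = 0 := by
  have h1 : (p : Γ(Spec (CommRingCat.of k), ⊤)) = 0 := by
    have := congrArg (Scheme.ΓSpecIso (CommRingCat.of k)).inv.hom (CharP.cast_eq_zero k p)
    rw [map_natCast, map_zero] at this
    exact this
  have := congrArg f.appTop.hom h1
  rw [map_natCast, map_zero] at this
  exact this

include f in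
omit hp [CharP k p] in
lemma noetherianSpace_of_finiteType [LocallyOfFiniteType f] [QuasiCompact f] :
    NoetherianSpace X := by
  haveI : IsLocallyNoetherian X := LocallyOfFiniteType.isLocallyNoetherian f
  haveI : CompactSpace X := QuasiCompact.compactSpace_of_compactSpace f
  haveI : IsNoetherian X := {}
  infer_instance

variable [IsSepClosed k] [IsProper f]

include f in
/-- `H^q(X_ét, ℤ/p) = 0` for `q > dim X`, for `X` proper over a separably closed field of
characteristic `p`. -/
theorem subsingleton_H_const_of_dim (d : ℕ) (hd : topologicalKrullDim X ≤ d) (n : ℕ) (hn : d ≤ n) :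
    Subsingleton (EtCoh.H X (EtCoh.const X (ZMod p)) (n + 1)) := by
  have h0 : (p : Γ(X, ⊤)) = 0 := natCast_eq_zero_of_field X p k f
  haveI : NoetherianSpace X := noetherianSpace_of_finiteType X k f
  letI : X.Over (Spec (CommRingCat.of k)) := ⟨f⟩
  haveI : IsProper (X ↘ Spec (CommRingCat.of k)) := ‹IsProper f›
  have hT := shortExact_AS X p h0
  refine subsingleton_of_forall_eq 0 fun x => ?_
  haveI := subsingleton_H_Ga_of_dim X d hd (n + 1) (by omega)
  have h1 : x.comp (Ext.mk₀ (fAS X p h0)) (add_zero (n + 1)) = 0 :=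
    Subsingleton.elim (α := EtCoh.H X (EtCoh.Ga X) (n + 1)) _ _
  obtain ⟨x₃, hx₃⟩ := Ext.covariant_sequence_exact₁ _ hT x h1 (rfl : n + 1 = n + 1)
  obtain ⟨y, hy⟩ := surjective_H_artinSchreier X p h0 k n x₃
  rw [← hx₃, ← hy]
  show (y.comp (Ext.mk₀ (gAS X p h0)) (add_zero n)).comp hT.extClass _ = 0
  rw [Ext.comp_assoc_of_second_deg_zero, hT.comp_extClass, Ext.comp_zero]

/-- `H^i(X_ét, ℤ/p) → H^i(X_ét, G_a)` is injective. -/
lemma injective_H_fAS [X.Over (Spec (CommRingCat.of k))]
    [IsProper (X ↘ Spec (CommRingCat.of k))] (h0 : (p : Γ(X, ⊤)) = 0) (i : ℕ) :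
    Function.Injective (Sheaf.H.map (fAS X p h0) i) := by
  have hT := shortExact_AS X p h0
  cases i with
  | zero =>
    haveI : Mono (fAS X p h0) := hT.mono_f
    exact Ext.postcomp_mk₀_injective_of_mono _ (fAS X p h0)
  | succ n =>
    rw [injective_iff_map_eq_zero]
    intro x h1
    obtain ⟨x₃, hx₃⟩ := Ext.covariant_sequence_exact₁ _ hT x h1 (rfl : n + 1 = n + 1)
    obtain ⟨y, hy⟩ := surjective_H_artinSchreier X p h0 k n x₃
    rw [← hx₃, ← hy]
    show (y.comp (Ext.mk₀ (gAS X p h0)) (add_zero n)).comp hT.extClass _ = 0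
    rw [Ext.comp_assoc_of_second_deg_zero, hT.comp_extClass, Ext.comp_zero]

/-- `H^i(X_ét, ℤ/p)` is finite of order at most `p ^ dim H^i(X, O_X)`. -/
theorem card_H_const_le [X.Over (Spec (CommRingCat.of k))]
    [IsProper (X ↘ Spec (CommRingCat.of k))] (i : ℕ) :
    Finite (EtCoh.H X (EtCoh.const X (ZMod p)) i) ∧
      Nat.card (EtCoh.H X (EtCoh.const X (ZMod p)) i) ≤
        p ^ Module.finrank k (Coh.HH X (Coh.structureModule X) i) := by
  have h0 : (p : Γ(X, ⊤)) = 0 := natCast_eq_zero_of_field X p k (X ↘ Spec (CommRingCat.of k))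
  have hfin : Module.Finite k (Coh.HH X (Coh.structureModule X) i) :=
    Groth.Agent.S0002.result k X (Coh.structureModule X)
      (Groth.Agent.Lib.Helper9.RefStalk.isCoh_unit X) i
  obtain ⟨hWfin, hWcard⟩ := PLinear.card_fixed_le (k := k) p (FZ X p h0 i) (FZ_smul (k := k) X p h0 i)
  obtain ⟨E, hE⟩ := exists_natural_compare X i
  have hinj := injective_H_fAS X p k h0 i
  -- the map to the fixed points
  have hfix : ∀ x : EtCoh.H X (EtCoh.const X (ZMod p)) i,
      FZ X p h0 i (E (Sheaf.H.map (fAS X p h0) i x)) = E (Sheaf.H.map (fAS X p h0) i x) := by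
    intro x
    have h1 : Sheaf.H.map (artinSchreierEndo X p hp.out h0) i (Sheaf.H.map (fAS X p h0) i x) = 0 := by
      rw [← Sheaf.H.map_comp_apply]
      have : fAS X p h0 ≫ artinSchreierEndo X p hp.out h0 = 0 := fAS_gAS X p h0
      rw [this]
      show x.comp (Ext.mk₀ 0) (add_zero i) = 0
      rw [Ext.mk₀_zero, Ext.comp_zero]
    have h2 := hE _ _ (compat_AS X p h0) (Sheaf.H.map (fAS X p h0) i x)
    rw [h1, map_zero] at h2
    rw [FZ_apply, ← h2, zero_add]
  let T : EtCoh.H X (EtCoh.const X (ZMod p)) i →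
      {v : Coh.HH X (Coh.structureModule X) i | FZ X p h0 i v = v} :=
    fun x => ⟨E (Sheaf.H.map (fAS X p h0) i x), hfix x⟩
  have hT : Function.Injective T := by
    intro x y h
    apply hinj
    apply E.injective
    exact congrArg Subtype.val h
  exact ⟨Finite.of_injective T hT, (Nat.card_le_card_of_injective T hT).trans hWcard⟩

end Proper

end

end Groth.Agent.Lib.Helper22.GaZar
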