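import Groth.Agent.Lib.Helper22.GaZar.Natural
import Groth.Agent.Lib.Helper22.PLinear
import Groth.Agent.Lib.Helper9.RefStalk2
import Groth.Agent.S0002
import Groth.Prelude.Def_W4c5etcohweilstudentAS

/-!
# The Artin–Schreier endomorphism on the cohomology of a proper scheme over a separably closed field
-/

set_option autoImplicit false
set_option linter.unusedSectionVars false
set_option linter.style.haveILetI false
universe u
open CategoryTheory CategoryTheory.Limits Opposite TopologicalSpace AlgebraicGeometry Abelian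

namespace Groth.Agent.Lib.Helper22.GaZar
open W4c5etcohweilstudent

noncomputable section

variable (X : Scheme.{u}) (p : ℕ) [hp : Fact p.Prime] (h0 : (p : Γ(X, ⊤)) = 0)

include h0 in
lemma h0U (U : X.Opens) : (p : Γ(X, U)) = 0 := by
  have := congrArg (X.presheaf.map (homOfLE (le_top : U ≤ ⊤)).op).hom h0
  simpa using this

/-- The Artin–Schreier endomorphism of the structure sheaf (as an abelian sheaf). -/
def asZar : Coh.toAb (Coh.structureModule X) ⟶ Coh.toAb (Coh.structureModule X) :=
  ⟨{ app := fun U => AddCommGrpCat.ofHom (asHom Γ(X, U.unop) p hp.out (h0U X p h0 U.unop))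
     naturality := by
       intro U V f
       ext a
       exact (ringHom_comp_asHom (X.presheaf.map f).hom p hp.out (h0U X p h0 U.unop)
         (h0U X p h0 V.unop) a).symm }⟩

lemma asZar_app (U : (Opens X)ᵒᵖ) (a : Γ(X, U.unop)) :
    (asZar X p h0).hom.app U a = a ^ p - a := rfl

lemma compat_AS : Compat X (artinSchreierEndo X p hp.out h0) (asZar X p h0) := by
  intro U a
  apply ULift.ext
  exact (ringHom_comp_asHom U.topIso.inv.hom p hp.out (h0U X p h0 U)
    (natCast_eq_zero_etale p h0 ((EtZar.zarToEt X).obj U)) a).symm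

/-- The semilinearity identity at the level of sheaves. -/
lemma smulAb_asZar (r : Coh.Γtop X) :
    Coh.smulAb (Coh.structureModule X) r ≫ asZar X p h0 + Coh.smulAb (Coh.structureModule X) r =
      asZar X p h0 ≫ Coh.smulAb (Coh.structureModule X) (r ^ p) +
        Coh.smulAb (Coh.structureModule X) (r ^ p) := by
  apply Sheaf.hom_ext
  ext U a
  let a' : Γ(X, U.unop) := a
  let r' : Γ(X, U.unop) := Coh.resTop X U r
  let rp' : Γ(X, U.unop) := Coh.resTop X U (r ^ p)
  have hr : rp' = r' ^ p := map_pow (Coh.resTop X U) r p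
  show (r' * a') ^ p - r' * a' + r' * a' = rp' * (a' ^ p - a') + rp' * a'
  rw [hr]
  ring

/-- The Artin–Schreier map on Zariski cohomology. -/
def GZ (q : ℕ) : Coh.HH X (Coh.structureModule X) q →+ Coh.HH X (Coh.structureModule X) q :=
  Sheaf.H.map (asZar X p h0) q

/-- The Frobenius on Zariski cohomology. -/
def FZ (q : ℕ) : Coh.HH X (Coh.structureModule X) q →+ Coh.HH X (Coh.structureModule X) q :=
  GZ X p h0 q + AddMonoidHom.id _

lemma FZ_apply (q : ℕ) (v : Coh.HH X (Coh.structureModule X) q) :
    FZ X p h0 q v = Sheaf.H.map (asZar X p h0) q v + v := rfl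

section Proper

variable (k : Type u) [Field k] [X.Over (Spec (CommRingCat.of k))]

variable {k} in
/-- The Frobenius on cohomology is `p`-linear. -/
lemma FZ_smul (q : ℕ) (c : k) (v : Coh.HH X (Coh.structureModule X) q) :
    FZ X p h0 q (c • v) = c ^ p • FZ X p h0 q v := by
  let r : Coh.Γtop X := Coh.toGlobal (X ↘ Spec (CommRingCat.of k)) c
  have e1 : c • v = Sheaf.H.map (Coh.smulAb (Coh.structureModule X) r) q v := rfl
  have e2 : ∀ w : Coh.HH X (Coh.structureModule X) q,
      c ^ p • w = Sheaf.H.map (Coh.smulAb (Coh.structureModule X) (r ^ p)) q w := by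
    intro w
    show (Coh.toGlobal (X ↘ Spec (CommRingCat.of k)) (c ^ p)) • w = _
    rw [map_pow]
    rfl
  rw [e1, e2, FZ_apply, FZ_apply, map_add, ← Sheaf.H.map_comp_apply, ← Sheaf.H.map_comp_apply,
    ← Sheaf.H.map_add_apply, ← Sheaf.H.map_add_apply, smulAb_asZar]

variable [IsSepClosed k] [CharP k p] [IsProper (X ↘ Spec (CommRingCat.of k))]

include k in
/-- The Artin–Schreier map is surjective on the Zariski cohomology of the structure sheaf. -/
theorem surjective_GZ (q : ℕ) : Function.Surjective (GZ X p h0 q) := by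
  have hfin : Module.Finite k (Coh.HH X (Coh.structureModule X) q) :=
    Groth.Agent.S0002.result k X (Coh.structureModule X) (Groth.Agent.Lib.Helper9.RefStalk.isCoh_unit X) q
  intro w
  obtain ⟨v, hv⟩ := PLinear.exists_F_sub_eq (k := k) p (FZ X p h0 q) (FZ_smul (k := k) X p h0 q) w
  refine ⟨v, ?_⟩
  rw [FZ_apply, add_sub_cancel_right] at hv
  exact hv

include k in
/-- The Artin–Schreier endomorphism is surjective on the étale cohomology of `G_a`. -/
theorem surjective_H_artinSchreier (q : ℕ) :
    Function.Surjective (Sheaf.H.map (artinSchreierEndo X p hp.out h0) q) := by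
  obtain ⟨E, hE⟩ := exists_natural_compare X q
  intro y
  obtain ⟨v, hv⟩ := surjective_GZ X p h0 k q (E y)
  refine ⟨E.symm v, ?_⟩
  apply E.injective
  rw [hE _ _ (compat_AS X p h0), AddEquiv.apply_symm_apply]
  exact hv

end Proper

end

end Groth.Agent.Lib.Helper22.GaZar
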