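import Groth.Agent.Lib.Helper22.CechU.Exact

/-!
# Čech acyclicity is insensitive to lifting the universe of the coefficients
-/

set_option autoImplicit false
set_option linter.unusedSectionVars false
universe u v u'
open CategoryTheory CategoryTheory.Limits Opposite

namespace Groth.Agent.Lib.Helper22.GaZar
open Groth.Agent.Lib.Helper22.CechU

noncomputable section

variable {D : Type u'} [Category.{v} D] [HasFiniteProducts D] {ι₀ : Type u} (Y₀ : ι₀ → D)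
  (P : Dᵒᵖ ⥤ AddCommGrpCat.{u})

/-- The lifted family. -/
abbrev YL : ULift.{u + 1} ι₀ → D := fun i => Y₀ i.down

/-- The lifted presheaf. -/
abbrev PL : Dᵒᵖ ⥤ AddCommGrpCat.{u + 1} := P ⋙ AddCommGrpCat.uliftFunctor.{u + 1, u}

/-- Lowering cochains. -/
def dn (n : ℕ) (x : (CK (YL Y₀) (PL P)).X n) : (CK Y₀ P).X n :=
  mk Y₀ P fun σ₀ => (proj (YL Y₀) (PL P) n (fun j => ULift.up (σ₀ j)) x).down

/-- Lifting cochains. -/
def upc (n : ℕ) (y : (CK Y₀ P).X n) : (CK (YL Y₀) (PL P)).X n :=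
  mk (YL Y₀) (PL P) fun σ => ULift.up (proj Y₀ P n (fun j => (σ j).down) y)

lemma proj_dn (n : ℕ) (x : (CK (YL Y₀) (PL P)).X n) (σ₀ : Fin (n + 1) → ι₀) :
    proj Y₀ P n σ₀ (dn Y₀ P n x) = (proj (YL Y₀) (PL P) n (fun j => ULift.up (σ₀ j)) x).down := by
  unfold dn
  rw [proj_mk]

lemma proj_upc (n : ℕ) (y : (CK Y₀ P).X n) (σ : Fin (n + 1) → ULift.{u + 1} ι₀) :
    proj (YL Y₀) (PL P) n σ (upc Y₀ P n y) = ULift.up (proj Y₀ P n (fun j => (σ j).down) y) := by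
  unfold upc
  rw [proj_mk]

lemma upc_dn (n : ℕ) (x : (CK (YL Y₀) (PL P)).X n) : upc Y₀ P n (dn Y₀ P n x) = x := by
  apply ext_proj
  intro σ
  rw [proj_upc, proj_dn]
  rfl

lemma down_sum {A : Type u} [AddCommGroup A] {κ : Type} [Fintype κ] (c : κ → ℤ)
    (f : κ → ULift.{u + 1} A) : (∑ k, c k • f k).down = ∑ k, c k • (f k).down := by
  have h := map_sum (AddEquiv.ulift (α := A)).toAddMonoidHom (fun k => c k • f k) Finset.univ
  refine h.trans ?_
  refine Finset.sum_congr rfl fun k _ => ?_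
  exact map_zsmul (AddEquiv.ulift (α := A)).toAddMonoidHom (c k) (f k)

lemma dn_d (n : ℕ) (x : (CK (YL Y₀) (PL P)).X n) :
    dn Y₀ P (n + 1) ((CK (YL Y₀) (PL P)).d n (n + 1) x) =
      (CK Y₀ P).d n (n + 1) (dn Y₀ P n x) := by
  apply ext_proj
  intro σ₀
  rw [proj_dn, proj_d, proj_d]
  refine (down_sum (A := P.obj (op (Uσ Y₀ σ₀))) _ _).trans ?_
  refine Finset.sum_congr rfl fun k _ => ?_
  rw [proj_dn]
  rfl

lemma upc_d (n : ℕ) (y : (CK Y₀ P).X n) :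
    upc Y₀ P (n + 1) ((CK Y₀ P).d n (n + 1) y) =
      (CK (YL Y₀) (PL P)).d n (n + 1) (upc Y₀ P n y) := by
  apply ext_proj
  intro σ
  apply ULift.down_injective
  rw [proj_upc, proj_d, proj_d]
  refine ((down_sum (A := P.obj (op (Uσ Y₀ fun j => (σ j).down))) _ _).trans ?_).symm
  refine Finset.sum_congr rfl fun k _ => ?_
  rw [proj_upc]
  rfl

lemma dn_zero (n : ℕ) : dn Y₀ P n 0 = 0 := by
  apply ext_proj
  intro σ₀
  rw [proj_dn, map_zero, map_zero]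
  rfl

/-- Čech acyclicity passes to the lifted family and presheaf. -/
theorem acyc_ulift (n : ℕ) (h : Acyc Y₀ P n) : Acyc (YL Y₀) (PL P) n := by
  intro x hx
  have h0 : (CK Y₀ P).d (n + 1) (n + 2) (dn Y₀ P (n + 1) x) = 0 := by
    rw [← dn_d, hx, dn_zero]
  obtain ⟨y₀, hy₀⟩ := h _ h0
  refine ⟨upc Y₀ P n y₀, ?_⟩
  rw [← upc_d, hy₀, upc_dn]

end

end Groth.Agent.Lib.Helper22.GaZar
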