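import Groth.Agent.Lib.Helper22.ColimCohU.Cartan
import Groth.Agent.Lib.Helper22.ExtCompare
import Groth.Agent.Lib.Helper22.GaZar.CechLift

/-!
# Sheaf cohomology on a topological space does not depend on the universe of the coefficients

For a sheaf `F` of abelian groups in `Type u` on a space `X : TopCat.{u}`, the cohomology of `F` and
of its lift to `Type (u + 1)` agree.
-/

set_option autoImplicit false
set_option linter.unusedSectionVars false
set_option linter.style.haveILetI false
universe u
open CategoryTheory CategoryTheory.Limits Opposite TopologicalSpace Abelian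

namespace Groth.Agent.Lib.Helper22.GaZar
open Groth.Agent.Lib.Helper22.CechU Groth.Agent.Lib.Helper22.CechU.Site
open Groth.Agent.Lib.Helper22.ColimCohU Groth.Agent.Lib.Helper22.ExtCompare

noncomputable section

variable (X : TopCat.{u})

/-- Lifting the universe of the coefficients. -/
abbrev Φ : Sheaf (Opens.grothendieckTopology X) AddCommGrpCat.{u} ⥤
    Sheaf (Opens.grothendieckTopology X) AddCommGrpCat.{u + 1} :=
  sheafCompose _ AddCommGrpCat.uliftFunctor.{u + 1, u}

instance essSmallOpens' : EssentiallySmall.{u + 1} (Opens X) :=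
  essentiallySmall_of_small_of_locallySmall _

instance preservesFiniteLimits_Φ [HasSheafify (Opens.grothendieckTopology X) AddCommGrpCat.{u + 1}]
    [HasSheafify (Opens.grothendieckTopology X) AddCommGrpCat.{u}] :
    PreservesFiniteLimits (Φ X) := by
  constructor
  intro K _ _
  have : PreservesLimitsOfShape K (Φ X ⋙ sheafToPresheaf _ _) :=
    inferInstanceAs (PreservesLimitsOfShape K (sheafToPresheaf _ _ ⋙
      (Functor.whiskeringRight _ _ _).obj AddCommGrpCat.uliftFunctor.{u + 1, u}))
  exact preservesLimitsOfShape_of_reflects_of_preserves (Φ X) (sheafToPresheaf _ _)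

variable [HasSheafify (Opens.grothendieckTopology X) AddCommGrpCat.{u + 1}]
  [HasSheafify (Opens.grothendieckTopology X) AddCommGrpCat.{u}]

instance : (Φ X).PreservesZeroMorphisms :=
  (Φ X).preservesZeroMorphisms_of_preserves_terminal_object

variable {X}

/-- Lifting the universe preserves epimorphisms. -/
theorem epi_map_Φ {F G : Sheaf (Opens.grothendieckTopology X) AddCommGrpCat.{u}} (g : F ⟶ G)
    [Epi g] : Epi ((Φ X).map g) := by
  haveI : (Opens.grothendieckTopology X).WEqualsLocallyBijective AddCommGrpCat.{u + 1} :=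
    .ofEssentiallySmall _
  rw [← Sheaf.isLocallySurjective_iff_epi' (A := AddCommGrpCat.{u + 1})]
  have h := (Sheaf.isLocallySurjective_iff_epi' (A := AddCommGrpCat.{u}) g).2 inferInstance
  constructor
  intro U s
  refine (Opens.grothendieckTopology X).superset_covering ?_ (h.imageSieve_mem s.down)
  rintro V i ⟨t, ht⟩
  exact ⟨ULift.up t, congrArg ULift.up ht⟩

/-- Lifting the universe is exact. -/
theorem shortExact_map_Φ (S : ShortComplex (Sheaf (Opens.grothendieckTopology X) AddCommGrpCat.{u}))
    (hS : S.ShortExact) : (S.map (Φ X)).ShortExact := by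
  haveI := hS.mono_f
  haveI := hS.epi_g
  have hex : (S.map (Φ X)).Exact :=
    hS.exact.map_of_mono_of_preservesKernel _ hS.mono_f inferInstance
  haveI : Mono (S.map (Φ X)).f := inferInstanceAs (Mono ((Φ X).map S.f))
  haveI : Epi (S.map (Φ X)).g := epi_map_Φ S.g
  exact ShortComplex.ShortExact.mk' hex inferInstance inferInstance

universe w w'

variable [HasExt.{w} (Sheaf (Opens.grothendieckTopology X) AddCommGrpCat.{u})]
  [HasExt.{w'} (Sheaf (Opens.grothendieckTopology X) AddCommGrpCat.{u + 1})]

variable (X) in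
/-- The comparison in degree zero. -/
def deg0 : Deg0Iso (Φ X)
    ((constantSheaf (Opens.grothendieckTopology X) AddCommGrpCat.{u}).obj
      (AddCommGrpCat.of (ULift ℤ)))
    ((constantSheaf (Opens.grothendieckTopology X) AddCommGrpCat.{u + 1}).obj
      (AddCommGrpCat.of (ULift ℤ))) where
  e G := ((Sheaf.H.equiv₀ G (isTerminalTop (α := Opens X))).trans AddEquiv.ulift.symm).trans
    (Sheaf.H.equiv₀ ((Φ X).obj G) (isTerminalTop (α := Opens X))).symm
  nat {G G'} g x := by
    show (Sheaf.H.equiv₀ ((Φ X).obj G') (isTerminalTop (α := Opens X))).symm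
        (AddEquiv.ulift.symm (Sheaf.H.equiv₀ G' (isTerminalTop (α := Opens X))
          (Sheaf.H.map g 0 x))) =
      Sheaf.H.map ((Φ X).map g) 0
        ((Sheaf.H.equiv₀ ((Φ X).obj G) (isTerminalTop (α := Opens X))).symm
          (AddEquiv.ulift.symm (Sheaf.H.equiv₀ G (isTerminalTop (α := Opens X)) x)))
    rw [← Sheaf.H.equiv₀_naturality, Sheaf.H.equiv₀_symm_naturality]
    rfl

section Cartan

/-- The coverings used for Cartan's criterion: covering families indexed by a lifted small type. -/
def CovL (U : Opens X) (ι : Type (u + 1)) (Y : ι → Over U) : Prop :=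
  (∃ (ι₀ : Type u) (Y₀ : ι₀ → Over U) (h : ι = ULift.{u + 1} ι₀), ∀ i, Y i = Y₀ (cast h i).down) ∧
    Sieve.ofArrows (fun i => (Y i).left) (fun i => (Y i).hom) ∈ Opens.grothendieckTopology X U

lemma hshL (Q : Sheaf (Opens.grothendieckTopology X) AddCommGrpCat.{u + 1}) :
    Presieve.IsSheaf (Opens.grothendieckTopology X) (Q.obj ⋙ forget AddCommGrpCat.{u + 1}) := by
  rw [← isSheaf_iff_isSheaf_of_type]
  exact ((sheafCompose (Opens.grothendieckTopology X) (forget AddCommGrpCat.{u + 1})).obj Q).property

lemma h1L (U : Opens X) (ι : Type (u + 1)) (Y : ι → Over U) (h : CovL U ι Y) :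
    U ∈ (Set.univ : Set (Opens X)) ∧
      Sieve.ofArrows (fun i => (Y i).left) (fun i => (Y i).hom) ∈ Opens.grothendieckTopology X U ∧
      ∀ (p : ℕ) (a : Fin (p + 1) → ι), (Uσ Y a).left ∈ (Set.univ : Set (Opens X)) :=
  ⟨trivial, h.2, fun _ _ => trivial⟩

lemma h2L (U : Opens X) (_ : U ∈ (Set.univ : Set (Opens X))) (T : Sieve U)
    (hT : T ∈ Opens.grothendieckTopology X U) :
    ∃ (ι : Type (u + 1)) (Y : ι → Over U), CovL U ι Y ∧ ∀ i, T.arrows (Y i).hom := by
  refine ⟨ULift.{u + 1} {f : Over U // T.arrows f.hom}, fun i => i.down.1,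
    ⟨⟨{f : Over U // T.arrows f.hom}, Subtype.val, rfl, fun _ => rfl⟩, ?_⟩, fun i => i.down.2⟩
  refine (Opens.grothendieckTopology X).superset_covering ?_ hT
  intro V f hf
  exact Sieve.ofArrows_mk (fun i : ULift.{u + 1} {f : Over U // T.arrows f.hom} => (i.down.1).left)
    (fun i => (i.down.1).hom) (ULift.up ⟨Over.mk f, hf⟩)

instance wEqL : (Opens.grothendieckTopology X).WEqualsLocallyBijective AddCommGrpCat.{u + 1} :=
  .ofEssentiallySmall _

variable [EnoughInjectives (Sheaf (Opens.grothendieckTopology X) AddCommGrpCat.{u + 1})]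
  [EnoughInjectives (Sheaf (Opens.grothendieckTopology X) AddCommGrpCat.{u})]

/-- The lift of an injective sheaf is Čech-acyclic. -/
lemma covAcyclic_Φ_injective (I : Sheaf (Opens.grothendieckTopology X) AddCommGrpCat.{u})
    [Injective I] : CovAcyclic (CovL (X := X)) ((Φ X).obj I) := by
  rintro U ι Y ⟨⟨ι₀, Y₀, rfl, hY⟩, -⟩ p
  obtain rfl : Y = YL Y₀ := funext hY
  exact acyc_ulift Y₀ (rP I.obj) p (acyc_of_injective_sheaf I Y₀ p)

/-- The lift of an injective sheaf is acyclic. -/
theorem ext_Φ_injective_eq_zero (I : Sheaf (Opens.grothendieckTopology X) AddCommGrpCat.{u})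
    [Injective I] (n : ℕ)
    (x : Ext ((constantSheaf (Opens.grothendieckTopology X) AddCommGrpCat.{u + 1}).obj
      (AddCommGrpCat.of (ULift ℤ))) ((Φ X).obj I) (n + 1)) : x = 0 := by
  refine ext_succ_eq_zero_of_class _ (CovAcyclic (CovL (X := X))) ?_
    (fun _ hG => hG.quot hshL h1L h2L) n _ (covAcyclic_Φ_injective I) x
  intro G hG x₃
  obtain ⟨s, hs⟩ := surjective_of_covAcyclic hshL h1L h2L (injSC G) (injSC_shortExact G) hG ⊤
    trivial (Sheaf.H.equiv₀ _ (isTerminalTop (α := Opens X)) x₃)
  refine ⟨(Sheaf.H.equiv₀ _ (isTerminalTop (α := Opens X))).symm s, ?_⟩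
  apply (Sheaf.H.equiv₀ _ (isTerminalTop (α := Opens X))).injective
  have h := Sheaf.H.equiv₀_naturality (hT := isTerminalTop (α := Opens X)) (injSC G).g
    ((Sheaf.H.equiv₀ _ (isTerminalTop (α := Opens X))).symm s)
  rw [AddEquiv.apply_symm_apply] at h
  exact h.symm.trans hs

/-- Sheaf cohomology is insensitive to lifting the universe of the coefficients. -/
theorem nonempty_H_lift (F : Sheaf (Opens.grothendieckTopology X) AddCommGrpCat.{u}) (n : ℕ) :
    Nonempty (Sheaf.H F n ≃+ Sheaf.H ((Φ X).obj F) n) :=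
  nonempty_ext_addEquiv (deg0 X) (fun _ => True)
    (fun G _ => shortExact_map_Φ (injSC G) (injSC_shortExact G))
    (fun _ _ => trivial)
    (fun G _ n x => ext_Φ_injective_eq_zero (injSC G).X₂ n x) n F trivial

end Cartan

end

end Groth.Agent.Lib.Helper22.GaZar
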