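import Groth.Agent.Lib.Helper22.GaZar.ZarCont
import Groth.Agent.Lib.Helper22.GaZar.UnivLift
import Groth.Agent.Lib.Helper22.GaAcyc.Main
import Groth.Agent.Lib.Helper22.EtLoc.Basic
import Groth.Agent.Lib.Lead.EtZarCompare
import Groth.Prelude.Def_Coh
import Groth.Prelude.Def_EtGm

/-!
# The restriction of `G_a` to the Zariski site is the structure sheaf; `G_a` is good
-/

set_option autoImplicit false
set_option linter.unusedSectionVars false
set_option linter.style.haveILetI false
universe u
open CategoryTheory CategoryTheory.Limits Opposite TopologicalSpace AlgebraicGeometry Abelian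

namespace Groth.Agent.Lib.Helper22.GaZar
open Groth.Agent.Lib.Helper22.EtLoc Groth.Agent.Lib.Lead.EtZarCompare

noncomputable section

variable (X : Scheme.{u})

/-- Sections of the structure sheaf over `U` and global sections of the open subscheme `U`. -/
def gaEquiv (U : X.Opens) : ULift.{u + 1} Γ(X, U) ≃+ ULift.{u + 1} Γ(U, ⊤) :=
  (AddEquiv.ulift.trans U.topIso.symm.commRingCatIsoToRingEquiv.toAddEquiv).trans
    AddEquiv.ulift.symm

lemma gaEquiv_apply (U : X.Opens) (a : ULift.{u + 1} Γ(X, U)) :
    gaEquiv X U a = ULift.up (U.topIso.inv.hom a.down) := rfl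

/-- The restriction of `G_a` to the Zariski site is the (lifted) structure sheaf. -/
def resZarGaIso [EtZar.ZarCont X] :
    (Φ X.carrier).obj (Coh.toAb (Coh.structureModule X)) ≅ (EtZar.resZar X).obj (EtCoh.Ga X) :=
  (fullyFaithfulSheafToPresheaf _ _).preimageIso
    (NatIso.ofComponents (fun U => (gaEquiv X U.unop).toAddCommGrpIso) (by
      intro U V f
      ext a
      apply ULift.ext
      change (Scheme.Opens.topIso (unop V)).inv.hom ((X.presheaf.map f).hom a.down) =
        (X.homOfLE (leOfHom f.unop)).appTop.hom ((Scheme.Opens.topIso (unop U)).inv.hom a.down)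
      rw [Scheme.homOfLE_appTop]
      simp only [Scheme.Opens.topIso_inv, ← CommRingCat.comp_apply]
      refine congrArg (fun φ => (CommRingCat.Hom.hom φ) a.down) ?_
      exact (X.presheaf.map_comp _ _).symm.trans
        ((congrArg X.presheaf.map (Subsingleton.elim _ _)).trans (X.presheaf.map_comp _ _))))

variable {X}

/-- `G_a` commutes with étale restriction (on underlying presheaves this is the identity). -/
def resGaIso {W : Scheme.{u}} (w : W ⟶ X) [Etale w] : (res w).obj (EtCoh.Ga X) ≅ EtCoh.Ga W :=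
  (fullyFaithfulSheafToPresheaf _ _).preimageIso
    (NatIso.ofComponents (fun _ => Iso.refl _) (by
      intro U V f
      exact (Category.comp_id _).trans (Category.id_comp _).symm))

/-- `G_a` commutes with étale pullback. -/
def pullGaIso {W : Scheme.{u}} (w : W ⟶ X) [Etale w] :
    (EtCoh.pull w).obj (EtCoh.Ga X) ≅ EtCoh.Ga W :=
  (pullIsoRes w).app (EtCoh.Ga X) ≪≫ resGaIso w

lemma subsingleton_H_of_iso {T : Scheme.{u}} {F F' : EtCoh.Ab T} (e : F ≅ F') (n : ℕ)
    (h : Subsingleton (EtCoh.H T F' n)) : Subsingleton (EtCoh.H T F n) := by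
  have hb : Function.Bijective ((EtCoh.HF T n).map e.hom) :=
    ConcreteCategory.bijective_of_isIso _
  have h' : Subsingleton ((EtCoh.HF T n).obj F') := h
  exact hb.injective.subsingleton

variable (X) in
/-- `G_a` has no higher cohomology on affine étale schemes. -/
theorem good_Ga [EtZar.ZarCont X] : Good X (EtCoh.Ga X) := by
  intro T hT i hi
  haveI : Etale T.hom := T.prop
  haveI : IsAffine T.left := hT
  exact subsingleton_H_of_iso (pullGaIso T.hom) i (GaAcyc.subsingleton_H_Ga T.left i hi)

universe w w' v' u'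

/-- Cohomology groups of isomorphic sheaves are isomorphic. -/
def HAddEquivOfIso {C : Type u'} [Category.{v'} C] {J : GrothendieckTopology C}
    [HasSheafify J AddCommGrpCat.{w}] [HasExt.{w'} (Sheaf J AddCommGrpCat.{w})]
    {F G : Sheaf J AddCommGrpCat.{w}} (e : F ≅ G) (n : ℕ) : Sheaf.H F n ≃+ Sheaf.H G n where
  toFun := Sheaf.H.map e.hom n
  invFun := Sheaf.H.map e.inv n
  left_inv x := by
    show (x.comp (Ext.mk₀ e.hom) (add_zero n)).comp (Ext.mk₀ e.inv) (add_zero n) = x
    rw [Ext.comp_assoc_of_second_deg_zero, Ext.mk₀_comp_mk₀, e.hom_inv_id, Ext.comp_mk₀_id]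
  right_inv x := by
    show (x.comp (Ext.mk₀ e.inv) (add_zero n)).comp (Ext.mk₀ e.hom) (add_zero n) = x
    rw [Ext.comp_assoc_of_second_deg_zero, Ext.mk₀_comp_mk₀, e.inv_hom_id, Ext.comp_mk₀_id]
  map_add' := map_add _

/-- Étale cohomology of `G_a` is Zariski cohomology of the structure sheaf. -/
theorem nonempty_H_Ga_addEquiv (X : Scheme.{u}) (p : ℕ) :
    Nonempty (EtCoh.H X (EtCoh.Ga X) p ≃+ Coh.HH X (Coh.structureModule X) p) := by
  haveI : EtZar.ZarCont X := zarCont X
  obtain ⟨e₁⟩ := nonempty_compare (EtCoh.Ga X) (good_Ga X) p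
  obtain ⟨e₂⟩ := nonempty_H_lift (X := X.carrier) (Coh.toAb (Coh.structureModule X)) p
  exact ⟨(e₁.symm.trans (HAddEquivOfIso (resZarGaIso X) p).symm).trans e₂.symm⟩

end

end Groth.Agent.Lib.Helper22.GaZar
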