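import Groth.Agent.Lib.Helper22.GaZar.GaIso
import Groth.Agent.Lib.Helper22.ExtCompareNat

/-!
# The comparison `H^q(X_et, G_a) ≃ H^q(X, O_X)` is compatible with endomorphisms
-/

set_option autoImplicit false
set_option linter.unusedSectionVars false
set_option linter.style.haveILetI false
universe u
open CategoryTheory CategoryTheory.Limits Opposite TopologicalSpace AlgebraicGeometry Abelian

namespace Groth.Agent.Lib.Helper22.GaZar
open Groth.Agent.Lib.Helper22.EtLoc Groth.Agent.Lib.Lead.EtZarCompare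
  Groth.Agent.Lib.Lead.EtZarFlat Groth.Agent.Lib.Helper22.ExtCompare

noncomputable section

variable (X : Scheme.{u})

/-- An endomorphism of `G_a` and an endomorphism of the structure sheaf which agree on opens. -/
def Compat (φ : EtCoh.Ga X ⟶ EtCoh.Ga X)
    (ψ : Coh.toAb (Coh.structureModule X) ⟶ Coh.toAb (Coh.structureModule X)) : Prop :=
  ∀ (U : X.Opens) (a : Γ(X, U)),
    (φ.hom.app (op ((EtZar.zarToEt X).obj U)) (ULift.up (U.topIso.inv.hom a)) : ULift.{u + 1} Γ(U, ⊤)) =
      ULift.up (U.topIso.inv.hom (ψ.hom.app (op U) a))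

variable {X}

lemma Compat.comm [EtZar.ZarCont X] {φ : EtCoh.Ga X ⟶ EtCoh.Ga X}
    {ψ : Coh.toAb (Coh.structureModule X) ⟶ Coh.toAb (Coh.structureModule X)} (h : Compat X φ ψ) :
    (Φ X.carrier).map ψ ≫ (resZarGaIso X).hom = (resZarGaIso X).hom ≫ (EtZar.resZar X).map φ := by
  apply Sheaf.hom_ext
  ext U a
  exact (h U.unop a.down).symm

variable (X) in
/-- The comparison isomorphism, compatible with endomorphisms. -/
theorem exists_natural_compare (q : ℕ) :
    ∃ E : EtCoh.H X (EtCoh.Ga X) q ≃+ Coh.HH X (Coh.structureModule X) q,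
      ∀ (φ : EtCoh.Ga X ⟶ EtCoh.Ga X)
        (ψ : Coh.toAb (Coh.structureModule X) ⟶ Coh.toAb (Coh.structureModule X)),
        Compat X φ ψ → ∀ x, E (Sheaf.H.map φ q x) = Sheaf.H.map ψ q (E x) := by
  haveI : EtZar.ZarCont X := zarCont X
  haveI : (EtZar.resZar X).PreservesZeroMorphisms := by
    haveI : PreservesLimitsOfSize.{0, 0} (EtZar.resZar X) :=
      (zarAdj X).rightAdjoint_preservesLimits
    exact (EtZar.resZar X).preservesZeroMorphisms_of_preserves_terminal_object
  obtain ⟨EA⟩ := nonempty_natFam (Groth.Agent.Lib.Lead.EtZarCompare.deg0 X) (good := Good X)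
    (fun G hG => shortExact_map_resZar (injSC G) (injSC_shortExact G) hG)
    (fun G hG => good_quot G hG)
    (fun G _ n x => by
      haveI := injective_resZar X (injSC G).X₂
      exact Ext.eq_zero_of_injective x) q
  obtain ⟨EB⟩ := nonempty_natFam (Groth.Agent.Lib.Helper22.GaZar.deg0 X.carrier)
    (good := fun _ => True)
    (fun G _ => shortExact_map_Φ (injSC G) (injSC_shortExact G)) (fun _ _ => trivial)
    (fun G _ n x => ext_Φ_injective_eq_zero (injSC G).X₂ n x) q
  let eA := EA.e (EtCoh.Ga X) (good_Ga X)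
  let eB := EB.e (Coh.toAb (Coh.structureModule X)) trivial
  let iso := resZarGaIso X
  refine ⟨eA.trans ((HAddEquivOfIso iso q).symm.trans eB.symm), ?_⟩
  intro φ ψ hc x
  have hcomm := hc.comm
  have h1 : eA (Sheaf.H.map φ q x) =
      (eA x).comp (Ext.mk₀ ((EtZar.resZar X).map φ)) (add_zero q) :=
    EA.nat (good_Ga X) (good_Ga X) φ x
  have h2 : ((eA x).comp (Ext.mk₀ ((EtZar.resZar X).map φ)) (add_zero q)).comp
      (Ext.mk₀ iso.inv) (add_zero q) =
      ((eA x).comp (Ext.mk₀ iso.inv) (add_zero q)).comp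
        (Ext.mk₀ ((Φ X.carrier).map ψ)) (add_zero q) := by
    rw [Ext.comp_assoc_of_second_deg_zero, Ext.comp_assoc_of_second_deg_zero, Ext.mk₀_comp_mk₀,
      Ext.mk₀_comp_mk₀]
    congr 2
    rw [← cancel_mono iso.hom, Category.assoc, Category.assoc, iso.inv_hom_id, Category.comp_id,
      hcomm, Iso.inv_hom_id_assoc]
  have h3 : ∀ z, eB.symm (z.comp (Ext.mk₀ ((Φ X.carrier).map ψ)) (add_zero q)) =
      (eB.symm z).comp (Ext.mk₀ ψ) (add_zero q) := by
    intro z
    apply eB.injective
    rw [AddEquiv.apply_symm_apply]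
    have := EB.nat trivial trivial ψ (eB.symm z)
    rw [this]
    congr 1
    exact (AddEquiv.apply_symm_apply eB z).symm
  show eB.symm ((HAddEquivOfIso iso q).symm (eA (Sheaf.H.map φ q x))) =
    (eB.symm ((HAddEquivOfIso iso q).symm (eA x))).comp (Ext.mk₀ ψ) (add_zero q)
  rw [h1]
  show eB.symm ((((eA x).comp (Ext.mk₀ ((EtZar.resZar X).map φ)) (add_zero q)).comp
      (Ext.mk₀ iso.inv) (add_zero q))) = _
  rw [h2, h3]
  rfl

end

end Groth.Agent.Lib.Helper22.GaZar
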