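import Groth.Agent.Lib.Lead.EtZarFlat
import Groth.Agent.Lib.Helper22.CechU.EtaleCov

/-!
# The functor from opens to étale schemes is continuous
-/

set_option autoImplicit false
universe u
open CategoryTheory CategoryTheory.Limits Opposite AlgebraicGeometry TopologicalSpace

namespace Groth.Agent.Lib.Helper22.GaZar
open Groth.Agent.Lib.Lead.EtZarFlat Groth.Agent.Lib.Helper22.CechU.Etale

/-- Open coverings are étale coverings. -/
theorem coverPreserving_zarToEt (X : Scheme.{u}) :
    CoverPreserving (Opens.grothendieckTopology X) X.smallEtaleTopology (EtZar.zarToEt X) where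
  cover_preserve {U S} hS := by
    rw [mem_smallEtaleTopology_iff]
    intro x
    obtain ⟨V, f, hf, hxV⟩ := hS x.1 x.2
    refine ⟨(EtZar.zarToEt X).obj V, (EtZar.zarToEt X).map f, ⟨x.1, hxV⟩,
      Sieve.image_mem_functorPushforward _ _ hf, ?_⟩
    apply Subtype.ext
    exact Scheme.homOfLE_apply f.le ⟨x.1, hxV⟩

/-- `EtZar.ZarCont X` holds for every scheme. -/
theorem zarCont (X : Scheme.{u}) : EtZar.ZarCont X := by
  have := representablyFlat_zarToEt X
  exact Functor.isContinuous_iff_coverPreserving.2 (coverPreserving_zarToEt X)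

end Groth.Agent.Lib.Helper22.GaZar
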